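import Cfsg.Prelude.Def_SubgroupEmbedding
import Cfsg.Prelude.Def_CaseTheorems
import Cfsg.Agent.S3020
import Cfsg.Agent.S3021

/-!
# Extremely closed abelian 2-subgroups: conjugates and fusion

Owner: helper73. For `g : G` we produce `K` (the odd core of `H ⊔ H^g`) and `k ∈ K` with
`k⁻¹ * g ∈ N_G(H)`; consequently `N_G(H)` controls the fusion of all of its elements.
-/

set_option autoImplicit false
set_option linter.unusedSectionVars false
set_option linter.style.haveILetI false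

open scoped Pointwise

namespace Cfsg.Agent.Lib.ExtremelyClosed

variable {G : Type*} [Group G] [Finite G] {H : Subgroup G}

/-- An extremely closed abelian 2-subgroup. -/
structure Hyp (H : Subgroup G) : Prop where
  two : IsPGroup 2 H
  comm : IsMulCommutative H
  closed : Cfsg.IsExtremelyClosed H

/-- In `H ⊔ L` with `L` odd normalised by the 2-group `H`, odd elements lie in `L`. -/
theorem mem_of_odd {L : Subgroup G} (hH : IsPGroup 2 H) (hL : H ≤ Subgroup.normalizer (L : Set G))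
    {x : G} (hx : x ∈ H ⊔ L) (ho : Odd (orderOf x)) : x ∈ L := by
  have hle : H ⊔ L ≤ Subgroup.normalizer (L : Set G) := sup_le hL Subgroup.le_normalizer
  let π := QuotientGroup.mk' (L.subgroupOf (Subgroup.normalizer (L : Set G)))
  have hx' : x ∈ ((H : Set G) * (L : Set G)) := by
    rw [← Subgroup.coe_mul_of_left_le_normalizer_right H L hL]
    exact hx
  obtain ⟨h, hh, l, hl, hxe⟩ := hx'
  have e : π ⟨x, hle hx⟩ = π ⟨h, hL hh⟩ := by
    refine QuotientGroup.eq.2 (Subgroup.mem_subgroupOf.2 ?_)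
    show x⁻¹ * h ∈ L
    rw [← hxe]
    simpa [mul_assoc] using inv_mem hl
  obtain ⟨j, hj⟩ := IsPGroup.iff_orderOf.1 hH ⟨h, hh⟩
  rw [Subgroup.orderOf_mk] at hj
  have h1 : orderOf (π ⟨x, hle hx⟩) ∣ 2 ^ j := by
    rw [e]
    exact (orderOf_map_dvd π _).trans (by rw [Subgroup.orderOf_mk, hj])
  have h2 : orderOf (π ⟨x, hle hx⟩) ∣ orderOf x :=
    (orderOf_map_dvd π _).trans (by rw [Subgroup.orderOf_mk])
  have h3 := orderOf_eq_one_iff.1
    (Nat.eq_one_of_dvd_coprimes (ho.coprime_two_left.pow_left j) h1 h2)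
  exact Subgroup.mem_subgroupOf.1 ((QuotientGroup.eq_one_iff _).1 h3)

theorem odd_orderOf {L : Subgroup G} (hL : Odd (Nat.card L)) {x : G} (hx : x ∈ L) :
    Odd (orderOf x) :=
  hL.of_dvd_nat (Subgroup.orderOf_dvd_natCard L hx)

theorem eq_one_of_two_of_odd {L : Subgroup G} (hH : IsPGroup 2 H) (hL : Odd (Nat.card L)) {x : G}
    (hxH : x ∈ H) (hxL : x ∈ L) : x = 1 := by
  obtain ⟨j, hj⟩ := IsPGroup.iff_orderOf.1 hH ⟨x, hxH⟩
  rw [Subgroup.orderOf_mk] at hj
  refine orderOf_eq_one_iff.1 (Nat.eq_one_of_dvd_coprimes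
    ((odd_orderOf hL hxL).coprime_two_left.pow_left j) ?_ dvd_rfl)
  rw [hj]

theorem conj_mem_iff {g x : G} {K : Subgroup G} :
    x ∈ K.map (MulAut.conj g).toMonoidHom ↔ g⁻¹ * x * g ∈ K := by
  constructor
  · rintro ⟨y, hy, rfl⟩
    simpa [mul_assoc] using hy
  · intro h
    exact ⟨_, h, by simp [mul_assoc]⟩

theorem conj_mem_map {g x : G} {K : Subgroup G} (hx : x ∈ K) :
    g * x * g⁻¹ ∈ K.map (MulAut.conj g).toMonoidHom :=
  ⟨x, hx, by simp⟩

/-- An element conjugating two subgroups into themselves normalises their join. -/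
theorem conj_mem_sup {A B : Subgroup G} {y : G} (hA : ∀ a ∈ A, y * a * y⁻¹ ∈ A ⊔ B)
    (hB : ∀ b ∈ B, y * b * y⁻¹ ∈ A ⊔ B) {x : G} (hx : x ∈ A ⊔ B) : y * x * y⁻¹ ∈ A ⊔ B := by
  have h : A ⊔ B ≤ (A ⊔ B).comap (MulAut.conj y).toMonoidHom :=
    sup_le (fun a ha => by simpa using hA a ha) (fun b hb => by simpa using hB b hb)
  simpa using h hx

/-- The pair of `H` and `g` : a normalised odd complement and the conjugating element. -/
structure Pair (H : Subgroup G) (g : G) (K : Subgroup G) (k : G) : Prop where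
  odd : Odd (Nat.card K)
  mem : k ∈ K
  conj : k⁻¹ * g ∈ Subgroup.normalizer (H : Set G)
  le_normalizer : H ≤ Subgroup.normalizer (K : Set G)
  sup : H ⊔ H.map (MulAut.conj g).toMonoidHom = H ⊔ K
  inf : K ⊓ Subgroup.normalizer (H : Set G) = ⊥

variable (hh : Hyp H)
include hh

theorem exists_pair (g : G) : ∃ (K : Subgroup G) (k : G), Pair H g K k := by
  haveI : Fact (Nat.Prime 2) := ⟨Nat.prime_two⟩
  set T := H ⊔ H.map (MulAut.conj g).toMonoidHom with hT
  set K := (Cfsg.pPrimeCore 2 ↥T).map T.subtype with hKdef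
  obtain ⟨hsup, hinf⟩ := Cfsg.Agent.S3020.result H hh.two hh.comm hh.closed g T hT
  rw [← hKdef] at hsup hinf
  have hK : Odd (Nat.card K) := by
    rw [hKdef, Subgroup.card_subtype]
    exact Nat.coprime_two_right.1 (Cfsg.Agent.Lib.Cores.pPrimeCore_coprime 2)
  haveI : (Cfsg.pPrimeCore 2 ↥T).Normal := inferInstance
  have hHT : H ≤ T := le_sup_left
  have hTK : T ≤ Subgroup.normalizer (K : Set G) := by
    intro t ht
    refine Subgroup.mem_normalizer_fintype fun a ha => ?_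
    obtain ⟨b, hb, rfl⟩ := ha
    exact ⟨(⟨t, ht⟩ : ↥T) * b * (⟨t, ht⟩ : ↥T)⁻¹, Subgroup.Normal.conj_mem inferInstance b hb _, rfl⟩
  have hHK : H ≤ Subgroup.normalizer (K : Set G) := hHT.trans hTK
  have hinf' : K ⊓ Subgroup.normalizer (H : Set G) = ⊥ := by
    rw [eq_bot_iff]
    rintro x ⟨hxK, hxN⟩
    have hxT : x ∈ T ⊓ Subgroup.normalizer (H : Set G) := ⟨hsup ▸ Subgroup.mem_sup_right hxK, hxN⟩
    rw [hh.closed g] at hxT
    exact hinf ▸ ⟨hxT, hxK⟩
  -- `H` is a Sylow subgroup of `T`, as is its conjugate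
  obtain ⟨P, hP⟩ := (hh.two.comap_subtype (K := T)).exists_le_sylow
  have hPeq : H.subgroupOf T = (P : Subgroup ↥T) := by
    refine Cfsg.Agent.Lib.LAEven57.eq_of_normalizer_le P.isPGroup' hP fun y _ hy => ?_
    have hyN : (y : G) ∈ Subgroup.normalizer (H : Set G) :=
      Subgroup.mem_normalizer_fintype fun a ha =>
        (Subgroup.mem_normalizer_iff.mp hy ⟨a, hHT ha⟩).mp ha
    have : (y : G) ∈ T ⊓ Subgroup.normalizer (H : Set G) := ⟨y.2, hyN⟩
    rw [hh.closed g] at this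
    exact this
  have hgT : H.map (MulAut.conj g).toMonoidHom ≤ T := le_sup_right
  have hgp : IsPGroup 2 ↥(H.map (MulAut.conj g).toMonoidHom) := hh.two.map _
  obtain ⟨Q, hQ⟩ := (hgp.comap_subtype (K := T)).exists_le_sylow
  obtain ⟨t, ht⟩ := MulAction.exists_smul_eq ↥T P Q
  have hsub : H.map (MulAut.conj g).toMonoidHom ≤ H.map (MulAut.conj (t : G)).toMonoidHom := by
    intro x hx
    have hxQ : (⟨x, hgT hx⟩ : ↥T) ∈ (Q : Subgroup ↥T) := hQ hx
    rw [← ht, Sylow.coe_subgroup_smul] at hxQ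
    obtain ⟨y, hy, hyx⟩ := hxQ
    refine ⟨(y : G), ?_, congrArg Subtype.val hyx⟩
    have hy' : y ∈ (P : Subgroup ↥T) := hy
    rw [← hPeq] at hy'
    exact hy'
  have heq := Subgroup.eq_of_le_of_card_ge hsub (le_of_eq (by
    rw [Subgroup.card_map_of_injective (MulEquiv.injective _),
      Subgroup.card_map_of_injective (MulEquiv.injective _)]))
  have htK : (t : G) ∈ ((K : Set G) * (H : Set G)) := by
    have h1 : (t : G) ∈ H ⊔ K := hsup.symm ▸ t.2
    rw [sup_comm, ← SetLike.mem_coe, Subgroup.coe_mul_of_right_le_normalizer_left K H hHK] at h1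
    exact h1
  obtain ⟨k, hk, h0, hh0, hte⟩ := htK
  refine ⟨K, k, hK, hk, ?_, hHK, hsup.symm, hinf'⟩
  refine Subgroup.mem_normalizer_fintype fun a ha => ?_
  have h1 : g * a * g⁻¹ ∈ H.map (MulAut.conj (t : G)).toMonoidHom := heq ▸ conj_mem_map ha
  rw [conj_mem_iff, ← hte] at h1
  have h2 : h0 * ((k * h0)⁻¹ * (g * a * g⁻¹) * (k * h0)) * h0⁻¹ ∈ H :=
    mul_mem (mul_mem hh0 h1) (inv_mem hh0)
  simpa [mul_assoc] using h2

omit hh in
theorem Pair.mem_iff (hH : IsPGroup 2 H) {g k : G} {K : Subgroup G} (p : Pair H g K k) {x : G} :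
    x ∈ K ↔ x ∈ H ⊔ H.map (MulAut.conj g).toMonoidHom ∧ Odd (orderOf x) := by
  rw [p.sup]
  exact ⟨fun h => ⟨Subgroup.mem_sup_right h, odd_orderOf p.odd h⟩,
    fun h => mem_of_odd hH p.le_normalizer h.1 h.2⟩

/-- An element normalising `H` and `H^g` normalises the odd complement. -/
theorem Pair.normalizes {g k : G} {K : Subgroup G} (p : Pair H g K k) {y : G}
    (hy : y ∈ Subgroup.normalizer (H : Set G)) (hy' : g⁻¹ * y * g ∈ Subgroup.normalizer (H : Set G))
    {x : G} (hx : x ∈ K) : y * x * y⁻¹ ∈ K := by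
  rw [p.mem_iff hh.two] at hx ⊢
  refine ⟨conj_mem_sup (fun a ha => Subgroup.mem_sup_left ((Subgroup.mem_normalizer_iff.1 hy a).1 ha))
    (fun b hb => Subgroup.mem_sup_right ?_) hx.1, ?_⟩
  · rw [conj_mem_iff] at hb ⊢
    simpa [mul_assoc] using (Subgroup.mem_normalizer_iff.1 hy' _).1 hb
  · have e : orderOf (y * x * y⁻¹) = orderOf x := orderOf_injective (MulAut.conj y).toMonoidHom
      (MulEquiv.injective _) x
    rw [e]; exact hx.2

/-- The normaliser of `H` controls the fusion of its elements. -/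
theorem fusion {x g : G} (hx : x ∈ Subgroup.normalizer (H : Set G))
    (hy : g * x * g⁻¹ ∈ Subgroup.normalizer (H : Set G)) :
    ∃ n ∈ Subgroup.normalizer (H : Set G), n * x * n⁻¹ = g * x * g⁻¹ := by
  obtain ⟨K, k, p⟩ := exists_pair hh g
  set y := g * x * g⁻¹ with hydef
  have hy' : g⁻¹ * y * g ∈ Subgroup.normalizer (H : Set G) := by
    simpa [hydef, mul_assoc] using hx
  have hz : y⁻¹ * (k⁻¹ * y * k) = 1 := by
    rw [← Subgroup.mem_bot, ← p.inf]
    constructor
    · have h1 : y⁻¹ * k⁻¹ * y⁻¹⁻¹ ∈ K := p.normalizes hh (Subgroup.inv_mem _ hy)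
        (by simpa [hydef, mul_assoc] using Subgroup.inv_mem _ hx) (inv_mem p.mem)
      simpa [mul_assoc] using mul_mem h1 p.mem
    · refine Subgroup.mul_mem _ (Subgroup.inv_mem _ hy) ?_
      have : k⁻¹ * y * k = (k⁻¹ * g) * x * (k⁻¹ * g)⁻¹ := by rw [hydef]; group
      rw [this]
      exact mul_mem (mul_mem p.conj hx) (inv_mem p.conj)
  refine ⟨k⁻¹ * g, p.conj, ?_⟩
  have h2 : k⁻¹ * y * k = y := (inv_mul_eq_one.1 hz).symm
  calc k⁻¹ * g * x * (k⁻¹ * g)⁻¹ = k⁻¹ * y * k := by rw [hydef]; group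
    _ = y := h2

theorem sylow_le_normalizer {P : Sylow 2 G} (hP : H ≤ (P : Subgroup G)) :
    (P : Subgroup G) ≤ Subgroup.normalizer (H : Set G) :=
  haveI : Fact (Nat.Prime 2) := ⟨Nat.prime_two⟩
  ((Cfsg.Agent.S3021.result H hh.two hh.closed).2 P hP).1

theorem odd_index : Odd (Subgroup.normalizer (H : Set G)).index := by
  haveI : Fact (Nat.Prime 2) := ⟨Nat.prime_two⟩
  obtain ⟨P, hP⟩ := hh.two.exists_le_sylow
  refine Odd.of_dvd_nat ?_ (Subgroup.index_dvd_of_le (sylow_le_normalizer hh hP))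
  rw [Nat.odd_iff]
  have := P.not_dvd_index
  omega

/-- An element of `H` centralised by `N_G(H)` has no other conjugate in a Sylow subgroup over `H`. -/
theorem eq_of_central {a g : G} (ha : a ∈ H)
    (hN : ∀ n ∈ Subgroup.normalizer (H : Set G), n * a * n⁻¹ = a)
    (hg : g * a * g⁻¹ ∈ Subgroup.normalizer (H : Set G)) : g * a * g⁻¹ = a := by
  obtain ⟨n, hn, e⟩ := fusion hh (Subgroup.le_normalizer ha) hg
  rw [← e]; exact hN n hn

end Cfsg.Agent.Lib.ExtremelyClosed
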