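import Cfsg.Agent.Lib.ExtremelyClosed.Basic

/-!
# Subgroups and quotients

Owner: helper73. The hypothesis passes to subgroups containing `H`, to quotients by odd normal
subgroups and to quotients by normal subgroups inside `H`.
-/

set_option autoImplicit false
set_option linter.unusedSectionVars false
set_option linter.style.haveILetI false

open scoped Pointwise

namespace Cfsg.Agent.Lib.ExtremelyClosed

universe u

variable {G : Type u} [Group G] [Finite G] {H : Subgroup G}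

theorem mem_normalizer_subgroupOf {L : Subgroup G} (hHL : H ≤ L) {x : ↥L} :
    x ∈ Subgroup.normalizer ((H.subgroupOf L : Subgroup ↥L) : Set ↥L) ↔
      (x : G) ∈ Subgroup.normalizer (H : Set G) := by
  constructor
  · intro hx
    exact Subgroup.mem_normalizer_fintype fun a ha =>
      (Subgroup.mem_normalizer_iff.mp hx ⟨a, hHL ha⟩).mp ha
  · intro hx
    refine Subgroup.mem_normalizer_iff.2 fun a => ?_
    simpa [Subgroup.mem_subgroupOf] using Subgroup.mem_normalizer_iff.1 hx (a : G)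

theorem Hyp.subgroupOf (hh : Hyp H) {L : Subgroup G} (hHL : H ≤ L) : Hyp (H.subgroupOf L) := by
  refine ⟨hh.two.comap_subtype, ?_, fun g => le_antisymm ?_ (le_inf le_sup_left Subgroup.le_normalizer)⟩
  · haveI := hh.comm
    refine ⟨⟨fun a b => ?_⟩⟩
    have h1 : ((a : ↥L) : G) * ((b : ↥L) : G) = ((b : ↥L) : G) * ((a : ↥L) : G) :=
      congrArg Subtype.val (mul_comm' (⟨((a : ↥L) : G), a.2⟩ : ↥H) ⟨((b : ↥L) : G), b.2⟩)
    exact Subtype.ext (Subtype.ext h1)
  rintro x ⟨hx, hxN⟩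
  have hle : H.subgroupOf L ⊔ (H.subgroupOf L).map (MulAut.conj g).toMonoidHom ≤
      (H ⊔ H.map (MulAut.conj (g : G)).toMonoidHom).subgroupOf L := by
    refine sup_le (fun a ha => Subgroup.mem_subgroupOf.2 (Subgroup.mem_sup_left ha)) ?_
    rintro _ ⟨a, ha, rfl⟩
    exact Subgroup.mem_subgroupOf.2 (Subgroup.mem_sup_right ⟨(a : G), ha, rfl⟩)
  have h2 : (x : G) ∈ (H ⊔ H.map (MulAut.conj (g : G)).toMonoidHom) ⊓
      Subgroup.normalizer (H : Set G) := ⟨hle hx, (mem_normalizer_subgroupOf hHL).1 hxN⟩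
  rw [hh.closed] at h2
  exact h2

variable {M : Subgroup G} [M.Normal]

/-- The image in `G ⧸ M`. -/
abbrev himg (H M : Subgroup G) [M.Normal] : Subgroup (G ⧸ M) := H.map (QuotientGroup.mk' M)

theorem conj_mem_sup_of_normalizer {g a : G}
    (hg : QuotientGroup.mk' M g ∈ Subgroup.normalizer ((himg H M : Subgroup (G ⧸ M)) : Set (G ⧸ M)))
    (ha : a ∈ H) : g * a * g⁻¹ ∈ H ⊔ M := by
  have h1 := (Subgroup.mem_normalizer_iff.1 hg (QuotientGroup.mk' M a)).1 ⟨a, ha, rfl⟩
  rw [← map_inv, ← map_mul, ← map_mul] at h1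
  have h2 : g * a * g⁻¹ ∈ (himg H M).comap (QuotientGroup.mk' M) := h1
  rwa [Subgroup.comap_map_eq, QuotientGroup.ker_mk'] at h2

theorem mk_mem_normalizer {g : G} (hg : g ∈ Subgroup.normalizer (H : Set G)) :
    QuotientGroup.mk' M g ∈ Subgroup.normalizer ((himg H M : Subgroup (G ⧸ M)) : Set (G ⧸ M)) :=
  Subgroup.le_normalizer_map _ ⟨g, hg, rfl⟩

/-- Transfer of the hypothesis to a quotient, given how the normaliser lifts. -/
theorem Hyp.quot (hh : Hyp H)
    (hlift : ∀ (g x : G), x ∈ H ⊔ H.map (MulAut.conj g).toMonoidHom →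
      QuotientGroup.mk' M x ∈ Subgroup.normalizer ((himg H M : Subgroup (G ⧸ M)) : Set (G ⧸ M)) →
      x ∈ H ⊔ M) : Hyp (himg H M) := by
  refine ⟨hh.two.map _, ?_, fun q => le_antisymm ?_ (le_inf le_sup_left Subgroup.le_normalizer)⟩
  · haveI := hh.comm
    refine ⟨⟨?_⟩⟩
    rintro ⟨_, a, ha, rfl⟩ ⟨_, b, hb, rfl⟩
    exact Subtype.ext (by
      show QuotientGroup.mk' M a * QuotientGroup.mk' M b = QuotientGroup.mk' M b * QuotientGroup.mk' M a
      rw [← map_mul, ← map_mul, show a * b = b * a from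
        congrArg Subtype.val (mul_comm' (⟨a, ha⟩ : ↥H) ⟨b, hb⟩)])
  obtain ⟨g, rfl⟩ := QuotientGroup.mk'_surjective M q
  rintro x ⟨hx, hxN⟩
  have hle : himg H M ⊔
      (himg H M).map (MulAut.conj (QuotientGroup.mk' M g)).toMonoidHom ≤
      (H ⊔ H.map (MulAut.conj g).toMonoidHom).map (QuotientGroup.mk' M) := by
    refine sup_le (Subgroup.map_mono le_sup_left) ?_
    rintro _ ⟨_, ⟨a, ha, rfl⟩, rfl⟩
    exact ⟨g * a * g⁻¹, Subgroup.mem_sup_right (conj_mem_map ha), by simp⟩
  obtain ⟨y, hy, rfl⟩ := hle hx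
  have h1 := hlift g y hy hxN
  have h2 : y ∈ (himg H M).comap (QuotientGroup.mk' M) := by
    rw [Subgroup.comap_map_eq, QuotientGroup.ker_mk']
    exact h1
  exact h2

section odd

variable (hh : Hyp H) (hM : Odd (Nat.card M))
include hh hM

theorem complement_le {g : G} {K : Subgroup G} {k : G} (p : Pair H g K k)
    (hg : ∀ a ∈ H, g * a * g⁻¹ ∈ H ⊔ M) : K ≤ M := by
  intro x hx
  have hx' := (p.mem_iff hh.two).1 hx
  have hle : H ⊔ H.map (MulAut.conj g).toMonoidHom ≤ H ⊔ M := by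
    refine sup_le le_sup_left fun b hb => ?_
    obtain ⟨a, ha, rfl⟩ := hb
    simpa using hg a ha
  exact mem_of_odd hh.two Subgroup.le_normalizer_of_normal (hle hx'.1) hx'.2

/-- The preimage of the normaliser is `N_G(H) M`. -/
theorem mem_of_mk_mem_normalizer {g : G}
    (hg : QuotientGroup.mk' M g ∈ Subgroup.normalizer ((himg H M : Subgroup (G ⧸ M)) : Set (G ⧸ M))) :
    g ∈ Subgroup.normalizer (H : Set G) ⊔ M := by
  obtain ⟨K, k, p⟩ := exists_pair hh g
  have hk := complement_le hh hM p (fun a ha => conj_mem_sup_of_normalizer hg ha) p.mem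
  have := mul_mem (Subgroup.mem_sup_right (S := Subgroup.normalizer (H : Set G)) hk)
    (Subgroup.mem_sup_left p.conj)
  simpa using this

theorem Hyp.quot_odd : Hyp (himg H M) := by
  refine hh.quot fun g x hx hxN => ?_
  obtain ⟨K, k, p⟩ := exists_pair hh g
  have hx' : x ∈ ((H : Set G) * (K : Set G)) := by
    rw [← Subgroup.coe_mul_of_left_le_normalizer_right H K p.le_normalizer, ← p.sup]
    exact hx
  obtain ⟨h, hmem, k₀, hk₀, rfl⟩ := hx'
  refine mul_mem (Subgroup.mem_sup_left hmem) (Subgroup.mem_sup_right ?_)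
  have hk₀N : QuotientGroup.mk' M k₀ ∈
      Subgroup.normalizer ((himg H M : Subgroup (G ⧸ M)) : Set (G ⧸ M)) := by
    have h1 := mul_mem (Subgroup.inv_mem _ (mk_mem_normalizer (M := M) (Subgroup.le_normalizer hmem))) hxN
    simpa [map_mul] using h1
  obtain ⟨K', k', p'⟩ := exists_pair hh k₀
  have hk'M : k' ∈ M := complement_le hh hM p' (fun a ha => conj_mem_sup_of_normalizer hk₀N ha) p'.mem
  have hk'K : k' ∈ K := by
    have h1 := (p'.mem_iff hh.two).1 p'.mem
    refine (p.mem_iff hh.two).2 ⟨?_, h1.2⟩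
    have hkT : k₀ ∈ H ⊔ H.map (MulAut.conj g).toMonoidHom := p.sup ▸ Subgroup.mem_sup_right hk₀
    have hle : H ⊔ H.map (MulAut.conj k₀).toMonoidHom ≤ H ⊔ H.map (MulAut.conj g).toMonoidHom := by
      refine sup_le le_sup_left ?_
      rintro _ ⟨a, ha, rfl⟩
      simpa using mul_mem (mul_mem hkT (Subgroup.mem_sup_left ha)) (inv_mem hkT)
    exact hle h1.1
  have h0 : k'⁻¹ * k₀ = 1 := by
    rw [← Subgroup.mem_bot, ← p.inf]
    exact ⟨Subgroup.mul_mem _ (Subgroup.inv_mem _ hk'K) hk₀, p'.conj⟩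
  rw [← inv_mul_eq_one.1 h0]
  exact hk'M

end odd

section inside

variable (hh : Hyp H) (hMH : M ≤ H)
include hh hMH

theorem mem_normalizer_of_mk {g : G}
    (hg : QuotientGroup.mk' M g ∈ Subgroup.normalizer ((himg H M : Subgroup (G ⧸ M)) : Set (G ⧸ M))) :
    g ∈ Subgroup.normalizer (H : Set G) :=
  Subgroup.mem_normalizer_fintype fun a ha => by
    have h1 := conj_mem_sup_of_normalizer hg ha
    rwa [sup_eq_left.2 hMH] at h1

theorem Hyp.quot_inside : Hyp (himg H M) := by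
  refine hh.quot fun g x hx hxN => ?_
  have h1 : x ∈ (H ⊔ H.map (MulAut.conj g).toMonoidHom) ⊓ Subgroup.normalizer (H : Set G) :=
    ⟨hx, mem_normalizer_of_mk hh hMH hxN⟩
  rw [hh.closed] at h1
  exact Subgroup.mem_sup_left h1

end inside

end Cfsg.Agent.Lib.ExtremelyClosed
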