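import Cfsg.Agent.Lib.ExtremelyClosed.RankTwo
import Cfsg.Agent.Lib.ExtremelyClosed.Hereditary
import Cfsg.Agent.Lib.Signalizer.Complete
import Cfsg.Agent.Lib.FTDeps.Basic
import Cfsg.Agent.Lib.ZStar.StronglyClosed

/-!
# An extremely closed abelian 2-subgroup: `G = N_G(H) O(G)`

Owner: helper73. Induction on the order. In a minimal case rank one and two are reduced to the
theorem on isolated involutions, rank at least three uses the signalizer functor `a ↦ O(C_G(a))`,
solvable by the odd order theorem, which is taken as a hypothesis.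
-/

set_option autoImplicit false
set_option linter.unusedSectionVars false
set_option linter.style.haveILetI false

open scoped Pointwise

namespace Cfsg.Agent.Lib.ExtremelyClosed

open Cfsg.Agent.Lib.ZStar.Elements (oddCore_odd le_oddCore)

universe u

variable {G : Type u} [Group G] [Finite G] {H : Subgroup G}

instance oddCore_normal : (Cfsg.oddCore G).Normal := by
  unfold Cfsg.oddCore; infer_instance

/-- The conclusion. -/
def Conclusion (H : Subgroup G) : Prop :=
  Subgroup.normalizer (H : Set G) ⊔ Cfsg.oddCore G = ⊤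

variable (hh : Hyp H)
include hh

/-- An involution of `H` centralised by `N_G(H)` is central when `O(G) = 1`. -/
theorem mem_center_of_central (hO : Cfsg.oddCore G = ⊥) {a : G} (ha : a ∈ hh.elem) (ha1 : a ≠ 1)
    (hN : ∀ n ∈ Subgroup.normalizer (H : Set G), n * a * n⁻¹ = a) : a ∈ Subgroup.center G := by
  haveI : Fact (Nat.Prime 2) := ⟨Nat.prime_two⟩
  obtain ⟨P, hP⟩ := hh.two.exists_le_sylow
  obtain ⟨M, hMn, hModd, hM⟩ := ZStar.StronglyClosed.involutionThm G P a
    (orderOf_eq_prime ha.2 ha1) (hP ha.1)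
    (fun g hg => eq_of_central hh ha.1 hN (sylow_le_normalizer hh hP hg))
  have hM1 : M = ⊥ := le_bot_iff.1 ((le_oddCore hModd).trans hO.le)
  rw [Subgroup.mem_center_iff]
  intro g
  have h1 := hM g
  rw [hM1, Subgroup.mem_bot, mul_inv_eq_one, mul_inv_eq_iff_eq_mul] at h1
  exact h1.symm

/-- With a central involution in `H`, reduce to the quotient. -/
theorem of_central (hO : Cfsg.oddCore G = ⊥) {a : G} (ha : a ∈ hh.elem) (ha1 : a ≠ 1)
    (hc : a ∈ Subgroup.center G)
    (ih : ∀ (Q : Type u) [Group Q] [Finite Q] (J : Subgroup Q),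
      Nat.card Q < Nat.card G → Hyp J → Conclusion J) : Conclusion H := by
  haveI : Fact (Nat.Prime 2) := ⟨Nat.prime_two⟩
  set Z := Subgroup.zpowers a with hZ
  haveI : Z.Normal := ⟨fun x hx g => by
    obtain ⟨i, rfl⟩ := Subgroup.mem_zpowers_iff.1 hx
    rw [(Subgroup.mem_center_iff.1 (zpow_mem hc i) g), mul_inv_cancel_right]
    exact ⟨i, rfl⟩⟩
  have hZH : Z ≤ H := Subgroup.zpowers_le.2 ha.1
  have hZcard : Nat.card Z = 2 := by rw [Nat.card_zpowers, orderOf_eq_prime ha.2 ha1]
  have hcard : Nat.card (G ⧸ Z) * 2 = Nat.card G := by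
    rw [← hZcard]; exact (Subgroup.card_eq_card_quotient_mul_card_subgroup Z).symm
  have hlt : Nat.card (G ⧸ Z) < Nat.card G := by
    have : 0 < Nat.card (G ⧸ Z) := Nat.card_pos
    omega
  have hconc := ih (G ⧸ Z) (himg H Z) hlt (hh.quot_inside hZH)
  -- the odd core of the quotient is trivial
  have hQ : Cfsg.oddCore (G ⧸ Z) = ⊥ := by
    set R := (Cfsg.oddCore (G ⧸ Z)).comap (QuotientGroup.mk' Z) with hR
    haveI : R.Normal := Subgroup.Normal.comap inferInstance _
    have hZR : Z ≤ R := fun x hx => by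
      show QuotientGroup.mk' Z x ∈ Cfsg.oddCore (G ⧸ Z)
      rw [QuotientGroup.mk'_apply, (QuotientGroup.eq_one_iff x).2 hx]
      exact one_mem _
    have hidx : (Z.subgroupOf R).index = Nat.card (Cfsg.oddCore (G ⧸ Z)) := by
      have h1 : Nat.card R = Nat.card Z * Nat.card (Cfsg.oddCore (G ⧸ Z)) := by
        have h0 := Subgroup.card_mul_index R
        rw [Subgroup.index_comap_of_surjective _ (QuotientGroup.mk'_surjective Z),
          Subgroup.card_eq_card_quotient_mul_card_subgroup Z,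
          ← Subgroup.card_mul_index (Cfsg.oddCore (G ⧸ Z))] at h0
        refine Nat.eq_of_mul_eq_mul_right
          (Nat.pos_of_ne_zero (Subgroup.index_ne_zero_of_finite (H := Cfsg.oddCore (G ⧸ Z)))) ?_
        rw [h0]; ring
      have h2 := Subgroup.card_mul_index (Z.subgroupOf R)
      rw [Nat.card_congr (Subgroup.subgroupOfEquivOfLe hZR).toEquiv, h1] at h2
      exact Nat.eq_of_mul_eq_mul_left (by rw [hZcard]; norm_num) h2
    obtain ⟨L, hL⟩ := Subgroup.exists_right_complement'_of_coprime (N := Z.subgroupOf R) (by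
      rw [Nat.card_congr (Subgroup.subgroupOfEquivOfLe hZR).toEquiv, hidx, hZcard]
      exact (oddCore_odd).coprime_two_left)
    have hLodd : Odd (Nat.card (L.map R.subtype)) := by
      rw [Subgroup.card_subtype, ← hL.symm.index_eq_card, hidx]
      exact oddCore_odd
    set L' := L.map R.subtype with hL'
    have hsplit : ∀ x ∈ R, x ∈ Z ⊔ L' := by
      intro x hx
      obtain ⟨⟨z, l⟩, hzl, -⟩ := hL.existsUnique (⟨x, hx⟩ : ↥R)
      rw [← show ((z : ↥R) : G) * ((l : ↥R) : G) = x from congrArg Subtype.val hzl]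
      exact mul_mem (Subgroup.mem_sup_left z.2) (Subgroup.mem_sup_right ⟨_, l.2, rfl⟩)
    have hnorm : Z ≤ Subgroup.normalizer (L' : Set G) := fun z hz =>
      Subgroup.mem_normalizer_fintype fun l hl => by
        obtain ⟨i, rfl⟩ := Subgroup.mem_zpowers_iff.1 hz
        rwa [← Subgroup.mem_center_iff.1 (zpow_mem hc i) l, mul_inv_cancel_right]
    haveI : L'.Normal := ⟨fun l hl g => by
      have hlR : l ∈ R := Subgroup.map_subtype_le L hl
      refine mem_of_odd ((hh.two).to_le hZH) hnorm (hsplit _ (‹R.Normal›.conj_mem l hlR g)) ?_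
      rw [show orderOf (g * l * g⁻¹) = orderOf l from
        orderOf_injective (MulAut.conj g).toMonoidHom (MulEquiv.injective _) l]
      exact odd_orderOf hLodd hl⟩
    have hL1 : L' = ⊥ := le_bot_iff.1 ((le_oddCore hLodd).trans hO.le)
    rw [eq_bot_iff]
    intro q hq
    obtain ⟨x, rfl⟩ := QuotientGroup.mk'_surjective Z q
    have hxZ : x ∈ Z := by simpa [hL1] using hsplit x hq
    exact Subgroup.mem_bot.2 ((QuotientGroup.eq_one_iff x).2 hxZ)
  unfold Conclusion at hconc ⊢
  rw [hQ, sup_bot_eq, eq_top_iff] at hconc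
  rw [eq_top_iff]
  exact fun g _ => Subgroup.mem_sup_left
    (mem_normalizer_of_mk hh hZH (hconc (Subgroup.mem_top (QuotientGroup.mk' Z g))))

/-- With a nontrivial odd core, reduce to the quotient. -/
theorem of_oddCore (hO : Cfsg.oddCore G ≠ ⊥)
    (ih : ∀ (Q : Type u) [Group Q] [Finite Q] (J : Subgroup Q),
      Nat.card Q < Nat.card G → Hyp J → Conclusion J) : Conclusion H := by
  have hlt : Nat.card (G ⧸ Cfsg.oddCore G) < Nat.card G := by
    rw [Subgroup.card_eq_card_quotient_mul_card_subgroup (Cfsg.oddCore G)]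
    exact lt_mul_of_one_lt_right Nat.card_pos ((Subgroup.one_lt_card_iff_ne_bot _).2 hO)
  have hconc := ih _ (himg H (Cfsg.oddCore G)) hlt (hh.quot_odd oddCore_odd)
  have hQ : Cfsg.oddCore (G ⧸ Cfsg.oddCore G) = ⊥ :=
    ZStar.Elements.quotient_oddCore _ inferInstance oddCore_odd
  unfold Conclusion at hconc ⊢
  rw [hQ, sup_bot_eq, eq_top_iff] at hconc
  rw [eq_top_iff]
  exact fun g _ => mem_of_mk_mem_normalizer hh oddCore_odd
    (hconc (Subgroup.mem_top (QuotientGroup.mk' _ g)))

/-- Odd `H`-invariant subgroups of `C_G(a)` lie in `C(H) O(C_G(a))`, and in `O(C_G(a))` when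
invariant under `C(H)`. -/
theorem centralizer_local {a : G} (ha : a ∈ H)
    (hloc : Conclusion (H.subgroupOf (Subgroup.centralizer ({a} : Set G))))
    {X : Subgroup G} (hXC : X ≤ Subgroup.centralizer ({a} : Set G)) (hX : Odd (Nat.card X))
    (hHX : H ≤ Subgroup.normalizer (X : Set G)) :
    X ≤ Subgroup.centralizer (H : Set G) ⊔
        (Cfsg.oddCore ↥(Subgroup.centralizer ({a} : Set G))).map (Subgroup.centralizer ({a} : Set G)).subtype ∧
    (Subgroup.centralizer (H : Set G) ≤ Subgroup.normalizer (X : Set G) →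
      X ≤ (Cfsg.oddCore ↥(Subgroup.centralizer ({a} : Set G))).map (Subgroup.centralizer ({a} : Set G)).subtype) := by
  set C := Subgroup.centralizer ({a} : Set G) with hC
  set O := (Cfsg.oddCore ↥C).map C.subtype with hOdef
  set CH := Subgroup.centralizer (H : Set G) with hCH
  have hHC : H ≤ C := fun x hx => Subgroup.mem_centralizer_singleton_iff.2 (commute_of_mem hh hx ha)
  have hCHC : CH ≤ C := fun x hx =>
    Subgroup.mem_centralizer_singleton_iff.2 ((Subgroup.mem_centralizer_iff.1 hx a ha).symm)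
  have hOC : O ≤ C := Subgroup.map_subtype_le _
  have hCO : C ≤ Subgroup.normalizer (O : Set G) := fun c hc =>
    Subgroup.mem_normalizer_fintype fun o ho => by
      obtain ⟨o', ho', rfl⟩ := ho
      exact ⟨(⟨c, hc⟩ : ↥C) * o' * (⟨c, hc⟩ : ↥C)⁻¹, oddCore_normal.conj_mem _ ho' _, rfl⟩
  have hOodd : Odd (Nat.card O) := by rw [hOdef, Subgroup.card_subtype]; exact oddCore_odd
  have hfirst : X ≤ CH ⊔ O := by
    intro x hx
    have hxC : (⟨x, hXC hx⟩ : ↥C) ∈
        Subgroup.normalizer ((H.subgroupOf C : Subgroup ↥C) : Set ↥C) ⊔ Cfsg.oddCore ↥C := by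
      rw [show _ ⊔ Cfsg.oddCore ↥C = ⊤ from hloc]; trivial
    obtain ⟨n, hn, o, ho, hno⟩ := Subgroup.mem_sup_of_normal_right.1 hxC
    have hno' : (n : G) * (o : G) = x := congrArg Subtype.val hno
    have hn' : (n : G) ∈ Subgroup.normalizer (H : Set G) := (mem_normalizer_subgroupOf hHC).1 hn
    have ho' : (o : G) ∈ O := ⟨o, ho, rfl⟩
    have hncH : (n : G) ∈ CH := by
      refine Subgroup.mem_centralizer_iff.2 fun h hh' => ?_
      set z := x * h * x⁻¹ * h⁻¹ with hz
      have hzX : z ∈ X := by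
        have h1 : h * x⁻¹ * h⁻¹ ∈ X := (Subgroup.mem_normalizer_iff.1 (hHX hh') _).1 (inv_mem hx)
        rw [hz, show x * h * x⁻¹ * h⁻¹ = x * (h * x⁻¹ * h⁻¹) by group]
        exact mul_mem hx h1
      set o₁ := (o : G) * (h * (o : G)⁻¹ * h⁻¹) with ho1
      have ho₁ : o₁ ∈ O := mul_mem ho' ((Subgroup.mem_normalizer_iff.1 (hCO (hHC hh')) _).1 (inv_mem ho'))
      have ho₂ : (n : G) * o₁ * (n : G)⁻¹ ∈ O := (Subgroup.mem_normalizer_iff.1 (hCO n.2) _).1 ho₁
      set w := (n : G) * h * (n : G)⁻¹ * h⁻¹ with hw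
      have hwH : w ∈ H := mul_mem ((Subgroup.mem_normalizer_iff.1 hn' h).1 hh') (inv_mem hh')
      have hzw : z = (n : G) * o₁ * (n : G)⁻¹ * w := by rw [hz, ← hno', hw, ho1]; group
      have hzO : z ∈ O := mem_of_odd hh.two (hHC.trans hCO)
        (hzw ▸ mul_mem (Subgroup.mem_sup_right ho₂) (Subgroup.mem_sup_left hwH)) (odd_orderOf hX hzX)
      have hwO : w ∈ O := by
        have := mul_mem (inv_mem ho₂) hzO
        rw [hzw] at this
        simpa [mul_assoc] using this
      have hw1 := eq_one_of_two_of_odd hh.two hOodd hwH hwO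
      rw [hw, mul_inv_eq_one, mul_inv_eq_iff_eq_mul] at hw1
      exact hw1.symm
    rw [← hno']
    exact mul_mem (Subgroup.mem_sup_left hncH) (Subgroup.mem_sup_right ho')
  refine ⟨hfirst, fun hCX => ?_⟩
  set L := CH ⊔ O with hL
  have hLC : L ≤ C := sup_le hCHC hOC
  set Y := X ⊔ O with hY
  have hYL : Y ≤ L := sup_le hfirst le_sup_right
  have hXO : X ≤ Subgroup.normalizer (O : Set G) := hXC.trans hCO
  have hYodd : Odd (Nat.card Y) := by
    have e := Subgroup.coe_mul_of_left_le_normalizer_right X O hXO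
    have hsub : Y ≤ Subgroup.normalizer (O : Set G) := sup_le hXO Subgroup.le_normalizer
    haveI : (O.subgroupOf Y).Normal :=
      (Subgroup.normal_subgroupOf_iff_le_normalizer le_sup_right).2 hsub
    have h := Cores.card_sup_dvd_mul (X.subgroupOf Y) (O.subgroupOf Y)
    rw [← Subgroup.subgroupOf_sup le_sup_left le_sup_right, Subgroup.subgroupOf_self,
      Subgroup.card_top, Nat.card_congr (Subgroup.subgroupOfEquivOfLe le_sup_left).toEquiv,
      Nat.card_congr (Subgroup.subgroupOfEquivOfLe le_sup_right).toEquiv] at h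
    exact (hX.mul hOodd).of_dvd_nat h
  have hLY : L ≤ Subgroup.normalizer (Y : Set G) := by
    refine sup_le (fun c hc => Subgroup.mem_normalizer_fintype fun y hy => ?_)
      ((le_sup_right : O ≤ Y).trans Subgroup.le_normalizer)
    exact conj_mem_sup (fun x hx => Subgroup.mem_sup_left ((Subgroup.mem_normalizer_iff.1 (hCX hc) x).1 hx))
      (fun o ho => Subgroup.mem_sup_right ((Subgroup.mem_normalizer_iff.1 (hCO (hCHC hc)) o).1 ho)) hy
  haveI : ((Y.subgroupOf C).subgroupOf (L.subgroupOf C)).Normal :=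
    ⟨fun y hy l => (Subgroup.mem_normalizer_iff.1 (hLY l.2) _).1 hy⟩
  haveI hLn : (L.subgroupOf C).Normal := by
    refine ⟨fun l hl c => ?_⟩
    show (c : G) * (l : G) * (c : G)⁻¹ ∈ L
    have hcC : c ∈ Subgroup.normalizer ((H.subgroupOf C : Subgroup ↥C) : Set ↥C) ⊔ Cfsg.oddCore ↥C := by
      rw [show _ ⊔ Cfsg.oddCore ↥C = ⊤ from hloc]; trivial
    obtain ⟨n, hn, o, ho, hno⟩ := Subgroup.mem_sup_of_normal_right.1 hcC
    have hn' : (n : G) ∈ Subgroup.normalizer (H : Set G) := (mem_normalizer_subgroupOf hHC).1 hn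
    have hoL : (o : G) ∈ L := Subgroup.mem_sup_right ⟨o, ho, rfl⟩
    have h1 : (o : G) * (l : G) * (o : G)⁻¹ ∈ L := mul_mem (mul_mem hoL hl) (inv_mem hoL)
    have h2 : (n : G) * ((o : G) * (l : G) * (o : G)⁻¹) * (n : G)⁻¹ ∈ L := by
      refine conj_mem_sup (fun x hx => Subgroup.mem_sup_left ?_)
        (fun x hx => Subgroup.mem_sup_right ((Subgroup.mem_normalizer_iff.1 (hCO n.2) x).1 hx)) h1
      refine Subgroup.mem_centralizer_iff.2 fun h hh' => ?_
      have h3 := Subgroup.mem_centralizer_iff.1 hx ((n : G)⁻¹ * h * (n : G)⁻¹⁻¹)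
        ((Subgroup.mem_normalizer_iff.1 (inv_mem hn') h).1 hh')
      rw [inv_inv] at h3
      calc h * ((n : G) * x * (n : G)⁻¹) = (n : G) * ((n : G)⁻¹ * h * (n : G) * x) * (n : G)⁻¹ := by group
        _ = (n : G) * (x * ((n : G)⁻¹ * h * (n : G))) * (n : G)⁻¹ := by rw [h3]
        _ = _ := by group
    have e : (n : G) * (o : G) = (c : G) := congrArg Subtype.val hno
    rw [← e]
    simpa [mul_assoc] using h2
  set Y₀ := (Y.subgroupOf C).subgroupOf (L.subgroupOf C) with hY0
  have hcard : Nat.card Y₀ = Nat.card Y := by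
    rw [hY0, Nat.card_congr (Subgroup.subgroupOfEquivOfLe
      (show Y.subgroupOf C ≤ L.subgroupOf C from Subgroup.comap_mono hYL)).toEquiv,
      Nat.card_congr (Subgroup.subgroupOfEquivOfLe (hYL.trans hLC)).toEquiv]
  have hYO : Y₀ ≤ Cfsg.oddCore ↥(L.subgroupOf C) := le_oddCore (hcard ▸ hYodd)
  haveI : (Cfsg.oddCore ↥(L.subgroupOf C)).Characteristic := Cores.pPrimeCore_characteristic 2
  haveI := Cores.normal_map_subtype (L.subgroupOf C) (Cfsg.oddCore ↥(L.subgroupOf C))
  have hle : (Cfsg.oddCore ↥(L.subgroupOf C)).map (L.subgroupOf C).subtype ≤ Cfsg.oddCore ↥C :=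
    le_oddCore (by rw [Subgroup.card_subtype]; exact oddCore_odd)
  intro x hx
  have hxY : x ∈ Y := Subgroup.mem_sup_left hx
  refine ⟨⟨x, hXC hx⟩, hle ⟨⟨⟨x, hXC hx⟩, hYL hxY⟩, hYO ?_, rfl⟩, rfl⟩
  exact hxY

/-- **Rank at least three.** -/
theorem rank_three (hFT : FTDeps.Basic.OddOrderSolvable.{u}) (hO : Cfsg.oddCore G = ⊥)
    (h8 : 8 ≤ Nat.card hh.elem)
    (hloc : ∀ a ∈ hh.elem, a ≠ 1 → Conclusion (H.subgroupOf (Subgroup.centralizer ({a} : Set G)))) :
    Conclusion H := by
  haveI : Fact (Nat.Prime 2) := ⟨Nat.prime_two⟩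
  set E := hh.elem with hEdef
  set θ : G → Subgroup G := fun a =>
    (Cfsg.oddCore ↥(Subgroup.centralizer ({a} : Set G))).map (Subgroup.centralizer ({a} : Set G)).subtype
    with hθdef
  have hE := elem_isElementaryAbelian hh
  have hθodd : ∀ a, Odd (Nat.card (θ a)) := fun a => by
    rw [hθdef, Subgroup.card_subtype]; exact oddCore_odd
  have hθC : ∀ a, θ a ≤ Subgroup.centralizer ({a} : Set G) := fun a => Subgroup.map_subtype_le _
  have hθnorm : ∀ a, Subgroup.centralizer ({a} : Set G) ≤ Subgroup.normalizer (θ a : Set G) := fun a c hc =>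
    Subgroup.mem_normalizer_fintype fun o ho => by
      obtain ⟨o', ho', rfl⟩ := ho
      exact ⟨(⟨c, hc⟩ : ↥(Subgroup.centralizer ({a} : Set G))) * o' * (⟨c, hc⟩ : ↥(Subgroup.centralizer ({a} : Set G)))⁻¹,
        oddCore_normal.conj_mem _ ho' _, rfl⟩
  have hHC : ∀ a ∈ H, H ≤ Subgroup.centralizer ({a} : Set G) := fun a ha x hx =>
    Subgroup.mem_centralizer_singleton_iff.2 (commute_of_mem hh hx ha)
  have hCHC : ∀ a ∈ H, Subgroup.centralizer (H : Set G) ≤ Subgroup.centralizer ({a} : Set G) :=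
    fun a ha x hx => Subgroup.mem_centralizer_singleton_iff.2
      ((Subgroup.mem_centralizer_iff.1 hx a ha).symm)
  have hEC : ∀ a ∈ H, Subgroup.centralizer (H : Set G) ≤
      Subgroup.normalizer ((Subgroup.centralizer ({a} : Set G) : Subgroup G) : Set G) := fun a ha =>
    (hCHC a ha).trans Subgroup.le_normalizer
  have hfun : IsSignalizerFunctor 2 E θ := by
    refine ⟨fun a _ _ => hθC a, fun a _ _ h => Nat.not_odd_iff_even.2 (even_iff_two_dvd.2 h) (hθodd a),
      fun a ha _ b hb x hx => (Subgroup.mem_normalizer_iff.1 (hθnorm a (hHC a ha.1 hb.1)) x).1 hx, ?_⟩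
    intro a ha ha1 b hb hb1
    set X := θ a ⊓ Subgroup.centralizer ({b} : Set G) with hX
    have hnorm : ∀ c, c ∈ Subgroup.centralizer ({a} : Set G) → c ∈ Subgroup.centralizer ({b} : Set G) →
        c ∈ Subgroup.normalizer (X : Set G) := fun c hca hcb =>
      Subgroup.mem_normalizer_fintype fun x hx =>
        ⟨(Subgroup.mem_normalizer_iff.1 (hθnorm a hca) x).1 hx.1,
          Subgroup.mul_mem _ (Subgroup.mul_mem _ hcb hx.2) (Subgroup.inv_mem _ hcb)⟩
    exact (centralizer_local hh hb.1 (hloc b hb hb1) inf_le_right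
      ((hθodd a).of_dvd_nat (Subgroup.card_dvd_of_le inf_le_left))
      (fun h hh' => hnorm h (hHC a ha.1 hh') (hHC b hb.1 hh'))).2
      fun c hc => hnorm c (hCHC a ha.1 hc) (hCHC b hb.1 hc)
  obtain ⟨U, hU, hUle⟩ := Signalizer.completes_two (θ := θ) hE h8 ⟨hfun, fun a _ _ => hFT _ (hθodd a)⟩
  set W := ⨆ a : {a : G // a ∈ E ∧ a ≠ 1}, θ (a : G) with hW
  have hWodd : Odd (Nat.card W) := by
    have hUo : Odd (Nat.card U) := Nat.odd_iff.2 (by have := hU.2.1; omega)
    exact hUo.of_dvd_nat (Subgroup.card_dvd_of_le (iSup_le fun a => hUle a a.2.1 a.2.2))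
  set N := Subgroup.normalizer (H : Set G) with hN
  have hNW : N ≤ Subgroup.normalizer (W : Set G) := by
    intro n hn
    refine Subgroup.mem_normalizer_fintype fun w hw => ?_
    have hle : W ≤ W.comap (MulAut.conj n).toMonoidHom := by
      refine iSup_le fun a => ?_
      intro x hx
      have hne : n * (a : G) * n⁻¹ ≠ 1 := by simpa using a.2.2
      refine le_iSup (fun a : {a : G // a ∈ E ∧ a ≠ 1} => θ (a : G))
        ⟨n * (a : G) * n⁻¹, conj_mem_elem hh hn a.2.1, hne⟩ ?_
      obtain ⟨x', hx', rfl⟩ := hx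
      let e : ↥(Subgroup.centralizer ({(a : G)} : Set G)) ≃*
          ↥(Subgroup.centralizer ({n * (a : G) * n⁻¹} : Set G)) :=
        { toFun := fun y => ⟨n * y * n⁻¹, Subgroup.mem_centralizer_singleton_iff.2 (by
            have hy := Subgroup.mem_centralizer_singleton_iff.1 y.2
            calc n * y * n⁻¹ * (n * (a : G) * n⁻¹) = n * ((y : G) * a) * n⁻¹ := by group
              _ = n * ((a : G) * y) * n⁻¹ := by rw [hy]
              _ = _ := by group)⟩
          invFun := fun y => ⟨n⁻¹ * y * n, Subgroup.mem_centralizer_singleton_iff.2 (by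
            have hy := Subgroup.mem_centralizer_singleton_iff.1 y.2
            calc n⁻¹ * y * n * (a : G) = n⁻¹ * ((y : G) * (n * a * n⁻¹)) * n := by group
              _ = n⁻¹ * ((n * a * n⁻¹) * y) * n := by rw [hy]
              _ = _ := by group)⟩
          left_inv := fun y => Subtype.ext (by simp [mul_assoc])
          right_inv := fun y => Subtype.ext (by simp [mul_assoc])
          map_mul' := fun y z => Subtype.ext (by simp [mul_assoc]) }
      refine ⟨e x', ?_, by simp [e]⟩
      have hmap := Cores.map_pPrimeCore_equiv (p := 2) e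
      show e x' ∈ Cfsg.pPrimeCore 2 _
      rw [← hmap]
      exact ⟨x', hx', rfl⟩
    simpa using hle hw
  set S := N ⊔ W with hS
  have hpair : ∀ g : G, g ∈ S := by
    intro g
    obtain ⟨K, k, p⟩ := exists_pair hh g
    have hkS : k ∈ S := by
      refine (Signalizer.le_of_hyp hE ((elem_le hh).trans p.le_normalizer)
        (fun h2 => Nat.not_odd_iff_even.2 even_two (p.odd.of_dvd_nat h2)) fun B hB => ?_) p.mem
      obtain ⟨c, hc, hc1⟩ := Signalizer.exists_ne_one_of_hyp (A := E) (by norm_num; exact h8) hB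
      have hcE := hB.1 hc
      have hCB : Subgroup.centralizer (B : Set G) ≤ Subgroup.centralizer ({c} : Set G) := fun y hy =>
        Subgroup.mem_centralizer_singleton_iff.2 ((Subgroup.mem_centralizer_iff.1 hy c hc).symm)
      have hHn : H ≤ Subgroup.normalizer ((K ⊓ Subgroup.centralizer (B : Set G) : Subgroup G) : Set G) := by
        intro h hh'
        refine Subgroup.mem_normalizer_fintype fun y hy => ⟨(Subgroup.mem_normalizer_iff.1 (p.le_normalizer hh') y).1 hy.1, ?_⟩
        have hhB : h ∈ Subgroup.centralizer (B : Set G) :=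
          Subgroup.mem_centralizer_iff.2 fun b hb => commute_of_mem hh (hB.1 hb).1 hh'
        exact Subgroup.mul_mem _ (Subgroup.mul_mem _ hhB hy.2) (Subgroup.inv_mem _ hhB)
      refine ((centralizer_local hh hcE.1 (hloc c hcE hc1) (inf_le_right.trans hCB)
        (p.odd.of_dvd_nat (Subgroup.card_dvd_of_le inf_le_left)) hHn).1).trans ?_
      exact sup_le ((Subgroup.centralizer_le_normalizer _).trans le_sup_left)
        ((le_iSup (fun a : {a : G // a ∈ E ∧ a ≠ 1} => θ (a : G)) ⟨c, hcE, hc1⟩).trans le_sup_right)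
    simpa using mul_mem hkS (Subgroup.mem_sup_left p.conj : k⁻¹ * g ∈ S)
  have hStop : S = ⊤ := top_le_iff.1 fun g _ => hpair g
  haveI : W.Normal := by
    rw [← Subgroup.normalizer_eq_top_iff, eq_top_iff, ← hStop]
    exact sup_le hNW Subgroup.le_normalizer
  have hW1 : W = ⊥ := le_bot_iff.1 ((le_oddCore hWodd).trans hO.le)
  unfold Conclusion
  rw [hS, hW1, sup_bot_eq] at hStop
  rw [← hN, hStop, top_sup_eq]

/-- The induction step. -/
theorem step (hFT : FTDeps.Basic.OddOrderSolvable.{u})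
    (ih : ∀ (Q : Type u) [Group Q] [Finite Q] (J : Subgroup Q),
      Nat.card Q < Nat.card G → Hyp J → Conclusion J) : Conclusion H := by
  haveI : Fact (Nat.Prime 2) := ⟨Nat.prime_two⟩
  by_cases hO : Cfsg.oddCore G = ⊥
  swap
  · exact of_oddCore hh hO ih
  by_cases hcen : ∃ a ∈ hh.elem, a ≠ 1 ∧ a ∈ Subgroup.center G
  · obtain ⟨a, ha, ha1, hac⟩ := hcen
    exact of_central hh hO ha ha1 hac ih
  push Not at hcen
  have hfixed : ∀ a ∈ hh.elem, a ≠ 1 → (∀ n ∈ Subgroup.normalizer (H : Set G), n * a * n⁻¹ = a) → False :=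
    fun a ha ha1 hN => hcen a ha ha1 (mem_center_of_central hh hO ha ha1 hN)
  by_cases hH1 : H = ⊥
  · unfold Conclusion
    rw [show Subgroup.normalizer (H : Set G) = ⊤ from Subgroup.normalizer_eq_top_iff.2 (hH1 ▸ inferInstance),
      top_sup_eq]
  -- the conjugates of `H` generate `G`
  by_cases hgen : Subgroup.normalClosure (H : Set G) = ⊤
  swap
  · set L := Subgroup.normalClosure (H : Set G) with hL
    have hHL : H ≤ L := Subgroup.subset_normalClosure
    have hlt : Nat.card L < Nat.card G := by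
      refine lt_of_le_of_ne (Subgroup.card_le_card_group L) fun h => hgen ?_
      exact Subgroup.eq_top_of_card_eq L h
    have hconc := ih ↥L (H.subgroupOf L) hlt (hh.subgroupOf hHL)
    haveI : (Cfsg.oddCore ↥L).Characteristic := Cores.pPrimeCore_characteristic 2
    haveI : L.Normal := Subgroup.normalClosure_normal
    haveI := Cores.normal_map_subtype L (Cfsg.oddCore ↥L)
    have hOL : (Cfsg.oddCore ↥L) = ⊥ := by
      refine (Subgroup.map_eq_bot_iff_of_injective _ L.subtype_injective).1 (le_bot_iff.1 ?_)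
      exact (le_oddCore (by rw [Subgroup.card_subtype]; exact oddCore_odd)).trans hO.le
    unfold Conclusion at hconc ⊢
    rw [hOL, sup_bot_eq, eq_top_iff] at hconc
    have hLN : L ≤ Subgroup.normalizer (H : Set G) := fun x hx =>
      (mem_normalizer_subgroupOf hHL).1 (hconc (Subgroup.mem_top (⟨x, hx⟩ : ↥L)))
    rw [eq_top_iff]
    intro g _
    refine Subgroup.mem_sup_left (Subgroup.mem_normalizer_fintype fun a ha => ?_)
    have h1 : g * a * g⁻¹ ∈ (H ⊔ H.map (MulAut.conj g).toMonoidHom) ⊓ Subgroup.normalizer (H : Set G) :=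
      ⟨Subgroup.mem_sup_right (conj_mem_map ha),
        hLN (Subgroup.normalClosure_normal.conj_mem _ (hHL ha) g)⟩
    rw [hh.closed g] at h1
    exact h1
  obtain ⟨m, hm⟩ := IsPGroup.iff_card.1 (PGroups.elemAb_isPGroup (elem_isElementaryAbelian hh))
  rcases Nat.lt_or_ge m 3 with hm3 | hm3
  · exfalso
    interval_cases m
    · -- `E` is trivial, so `H` is
      apply hH1
      rw [eq_bot_iff]
      intro x hx
      by_contra hx1
      obtain ⟨j, hj⟩ := IsPGroup.iff_orderOf.1 hh.two ⟨x, hx⟩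
      rw [Subgroup.orderOf_mk] at hj
      rcases j with _ | j
      · exact hx1 (by simpa using hj)
      have h2 : x ^ 2 ^ j ∈ hh.elem := ⟨pow_mem hx _, by rw [← pow_mul, ← pow_succ, ← hj, pow_orderOf_eq_one]⟩
      have hbot : hh.elem = ⊥ := Subgroup.eq_bot_of_card_eq _ hm
      rw [hbot, Subgroup.mem_bot, ← orderOf_dvd_iff_pow_eq_one, hj] at h2
      have := (Nat.pow_dvd_pow_iff_le_right (by norm_num)).1 h2
      omega
    · obtain ⟨a, ha, ha1⟩ : ∃ a ∈ hh.elem, a ≠ (1 : G) := by
        refine hh.elem.bot_or_exists_ne_one.resolve_left fun h => ?_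
        rw [h, Subgroup.card_bot] at hm; omega
      refine hfixed a ha ha1 fun n hn => ?_
      have hall : ∀ b ∈ hh.elem, b = 1 ∨ b = a := by
        intro b hb
        have h2 : Nat.card hh.elem = 2 := hm
        obtain ⟨u, v, huv, huniv⟩ := Nat.card_eq_two_iff.1 h2
        have h0 : ∀ w : ↥hh.elem, w = u ∨ w = v := fun w => by
          have := huniv ▸ Set.mem_univ w
          simpa using this
        by_contra hne
        push Not at hne
        rcases h0 ⟨b, hb⟩ with e1 | e1 <;> rcases h0 ⟨a, ha⟩ with e2 | e2 <;> rcases h0 1 with e3 | e3 <;>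
          first
            | exact hne.2 (congrArg Subtype.val (e1.trans e2.symm))
            | exact hne.1 (congrArg Subtype.val (e1.trans e3.symm))
            | exact ha1 (congrArg Subtype.val (e2.trans e3.symm))
      exact (hall _ (conj_mem_elem hh hn ha)).resolve_left (by simpa using ha1)
    · obtain ⟨a, ha, ha1⟩ : ∃ a ∈ hh.elem, a ≠ (1 : G) := by
        refine hh.elem.bot_or_exists_ne_one.resolve_left fun h => ?_
        rw [h, Subgroup.card_bot] at hm; omega
      exact hfixed a ha ha1 fun n hn => rank_two hh hgen hm hn ha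
  · have h8 : 8 ≤ Nat.card hh.elem := by
      rw [hm]; exact Nat.pow_le_pow_right (by norm_num : 0 < 2) hm3
    refine rank_three hh hFT hO h8 fun a ha ha1 => ih _ _ ?_ (hh.subgroupOf ?_)
    · refine lt_of_le_of_ne (Subgroup.card_le_card_group _) fun h => hcen a ha ha1 ?_
      have htop := Subgroup.eq_top_of_card_eq _ h
      exact Subgroup.mem_center_iff.2 fun g => Subgroup.mem_centralizer_singleton_iff.1
        (htop ▸ Subgroup.mem_top g)
    · exact fun x hx => Subgroup.mem_centralizer_singleton_iff.2 (commute_of_mem hh hx ha.1)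

omit hh

/-- `G = N_G(H) O(G)`, given the odd order theorem. -/
theorem main (hFT : FTDeps.Basic.OddOrderSolvable.{u}) : ∀ (n : ℕ) (Q : Type u) [Group Q] [Finite Q]
    (J : Subgroup Q), Nat.card Q = n → Hyp J → Conclusion J := by
  intro n
  induction n using Nat.strong_induction_on with
  | _ n ih =>
    intro Q _ _ J hn hJ
    exact step hJ hFT fun R _ _ J' hlt hJ' => ih (Nat.card R) (hn ▸ hlt) R J' rfl hJ'

/-- The statement of S3017, given the odd order theorem. -/
theorem normalizer_sup_oddCore (hFT : FTDeps.Basic.OddOrderSolvable.{u}) (H : Subgroup G)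
    (hH2 : IsPGroup 2 H) (hHab : IsMulCommutative H) (hcl : Cfsg.IsExtremelyClosed H) :
    Subgroup.normalizer (H : Set G) ⊔ Cfsg.oddCore G = ⊤ :=
  main hFT _ G H rfl ⟨hH2, hHab, hcl⟩

end Cfsg.Agent.Lib.ExtremelyClosed
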