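import Cfsg.Agent.Lib.ExtremelyClosed.Basic
import Cfsg.Agent.Lib.Signalizer.Members

/-!
# Rank two: the normaliser fixes an involution

Owner: helper73. `E` is the set of elements of order at most 2 of `H`. A linear character of
`N_G(H)` trivial on `H` is killed by transfer when `G` is generated by the conjugates of `H`,
so `N_G(H)` induces even permutations on `E`. The rule sending `g * a * g⁻¹` to the element `e`
of `E` with `e⁻¹ * g * a * g⁻¹` of odd order then shows that `N_G(H)` centralises `E`.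
-/

set_option autoImplicit false
set_option linter.unusedSectionVars false
set_option linter.style.haveILetI false

open scoped Pointwise

namespace Cfsg.Agent.Lib.ExtremelyClosed

variable {G : Type*} [Group G] [Finite G] {H : Subgroup G}

/-- The elements of order at most 2 of `H`. -/
def Hyp.elem (hh : Hyp H) : Subgroup G where
  carrier := {x | x ∈ H ∧ x ^ 2 = 1}
  one_mem' := ⟨H.one_mem, one_pow _⟩
  mul_mem' {a b} ha hb := ⟨H.mul_mem ha.1 hb.1, by
    haveI := hh.comm
    have hc : Commute a b := congrArg Subtype.val (mul_comm' (⟨a, ha.1⟩ : ↥H) ⟨b, hb.1⟩)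
    rw [hc.mul_pow, ha.2, hb.2, one_mul]⟩
  inv_mem' {a} ha := ⟨H.inv_mem ha.1, by rw [inv_pow, ha.2, inv_one]⟩

variable (hh : Hyp H)

theorem mem_elem {x : G} : x ∈ hh.elem ↔ x ∈ H ∧ x ^ 2 = 1 := Iff.rfl

theorem elem_le : hh.elem ≤ H := fun _ h => h.1

include hh in
theorem commute_of_mem {a b : G} (ha : a ∈ H) (hb : b ∈ H) : a * b = b * a :=
  haveI := hh.comm
  congrArg Subtype.val (mul_comm' (⟨a, ha⟩ : ↥H) ⟨b, hb⟩)

theorem elem_isElementaryAbelian : Cfsg.IsElementaryAbelian 2 hh.elem :=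
  PGroups.elemAb_mk (fun _ ha _ hb => commute_of_mem hh ha.1 hb.1) fun _ ha => ha.2

theorem conj_mem_elem {n a : G} (hn : n ∈ Subgroup.normalizer (H : Set G)) (ha : a ∈ hh.elem) :
    n * a * n⁻¹ ∈ hh.elem :=
  ⟨(Subgroup.mem_normalizer_iff.1 hn a).1 ha.1, by rw [conj_pow, ha.2, mul_one, mul_inv_cancel]⟩

/-- The action of the normaliser on `E`. -/
def permElem : ↥(Subgroup.normalizer (H : Set G)) →* Equiv.Perm ↥hh.elem where
  toFun n :=
    { toFun := fun a => ⟨(n : G) * a * (n : G)⁻¹, conj_mem_elem hh n.2 a.2⟩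
      invFun := fun a => ⟨(n : G)⁻¹ * a * (n : G)⁻¹⁻¹, conj_mem_elem hh (inv_mem n.2) a.2⟩
      left_inv := fun a => Subtype.ext (by simp [mul_assoc])
      right_inv := fun a => Subtype.ext (by simp [mul_assoc]) }
  map_one' := Equiv.ext fun a => Subtype.ext (by simp)
  map_mul' m n := Equiv.ext fun a => Subtype.ext (by simp [mul_assoc])

@[simp] theorem permElem_apply (n : ↥(Subgroup.normalizer (H : Set G))) (a : ↥hh.elem) :
    ((permElem hh n a : ↥hh.elem) : G) = (n : G) * a * (n : G)⁻¹ := rfl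

include hh

/-- A linear character of the normaliser trivial on `H` of order 2 is trivial, when the conjugates
of `H` generate `G`. -/
theorem linear_eq_one (μ : ↥(Subgroup.normalizer (H : Set G)) →* ℤˣ)
    (hμ : ∀ h : ↥(Subgroup.normalizer (H : Set G)), (h : G) ∈ H → μ h = 1)
    (hgen : Subgroup.normalClosure (H : Set G) = ⊤) : μ = 1 := by
  classical
  haveI := Fintype.ofFinite G
  have key : ∀ (n : ↥(Subgroup.normalizer (H : Set G))), MonoidHom.transfer μ (n : G) = μ n := by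
    intro n
    rw [MonoidHom.transfer_eq_prod_quotient_orbitRel_zpowers_quot]
    have hterm : ∀ (g₀ : G) (j : ℕ) (hm : g₀⁻¹ * (n : G) ^ j * g₀ ∈ Subgroup.normalizer (H : Set G)),
        μ ⟨g₀⁻¹ * (n : G) ^ j * g₀, hm⟩ = μ n ^ j := by
      intro g₀ j hm
      obtain ⟨m, hmN, e⟩ := fusion hh (x := (n : G) ^ j) (g := g₀⁻¹) (pow_mem n.2 j)
        (by simpa using hm)
      have : (⟨g₀⁻¹ * (n : G) ^ j * g₀, hm⟩ : ↥(Subgroup.normalizer (H : Set G))) = ⟨m, hmN⟩ * n ^ j * ⟨m, hmN⟩⁻¹ :=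
        Subtype.ext (by simpa using e.symm)
      rw [this, map_mul, map_mul, map_inv, mul_comm (μ ⟨m, hmN⟩), mul_inv_cancel_right, map_pow]
    simp only [hterm]
    rw [Finset.prod_pow_eq_pow_sum, ← Subgroup.index_eq_sum_minimalPeriod]
    obtain ⟨i, hi⟩ := odd_index hh
    rw [hi, pow_succ, pow_mul, Int.units_sq, one_pow, one_mul]
  have hker : Subgroup.normalClosure (H : Set G) ≤ (MonoidHom.transfer μ).ker :=
    Subgroup.normalClosure_le_normal fun h hmem => by
      have h1 := key ⟨h, Subgroup.le_normalizer hmem⟩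
      rw [hμ _ hmem] at h1
      exact h1
  rw [hgen] at hker
  exact MonoidHom.ext fun n => by rw [← key n, hker (Subgroup.mem_top _)]; rfl

/-- When `#E = 4`, an element of the normaliser fixing a point of `E` fixes all of `E`. -/
theorem fix_all (hgen : Subgroup.normalClosure (H : Set G) = ⊤) (h4 : Nat.card hh.elem = 4)
    {n a : G} (hn : n ∈ Subgroup.normalizer (H : Set G)) (ha : a ∈ hh.elem) (ha1 : a ≠ 1)
    (hfix : n * a * n⁻¹ = a) {b : G} (hb : b ∈ hh.elem) : n * b * n⁻¹ = b := by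
  classical
  haveI := Fintype.ofFinite ↥hh.elem
  have hμ := linear_eq_one hh (Equiv.Perm.sign.comp (permElem hh)) (fun h hmem => by
    have : permElem hh h = 1 := Equiv.ext fun x => Subtype.ext (by
      rw [permElem_apply, commute_of_mem hh hmem x.2.1, mul_inv_cancel_right]; rfl)
    rw [MonoidHom.comp_apply, this, map_one]) hgen
  set f := permElem hh ⟨n, hn⟩ with hf
  have hsign : Equiv.Perm.sign f = 1 := DFunLike.congr_fun hμ ⟨n, hn⟩
  have hsub : f.support ⊆ Finset.univ \ {(1 : ↥hh.elem), ⟨a, ha⟩} := by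
    intro x hx
    rw [Equiv.Perm.mem_support] at hx
    simp only [Finset.mem_sdiff, Finset.mem_univ, true_and, Finset.mem_insert, Finset.mem_singleton,
      not_or]
    refine ⟨?_, ?_⟩
    · rintro rfl
      exact hx (Subtype.ext (by simp [f]))
    · rintro rfl
      exact hx (Subtype.ext (by simpa [f] using hfix))
  have hne : (1 : ↥hh.elem) ≠ ⟨a, ha⟩ := fun e => ha1 (congrArg Subtype.val e).symm
  have hcard : f.support.card ≤ 2 := by
    refine (Finset.card_le_card hsub).trans ?_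
    rw [Finset.card_sdiff_of_subset (Finset.subset_univ _), Finset.card_univ,
      Finset.card_pair hne, ← Nat.card_eq_fintype_card, h4]
  have hf1 : f = 1 := by
    rcases Nat.lt_or_ge f.support.card 2 with h | h
    · exact Equiv.Perm.card_support_le_one.1 (by omega)
    · have hs := Equiv.Perm.IsSwap.sign_eq (Equiv.Perm.card_support_eq_two.1 (le_antisymm hcard h))
      rw [hsign] at hs
      exact absurd hs (by decide)
  have := congrArg (fun p : Equiv.Perm ↥hh.elem => ((p ⟨b, hb⟩ : ↥hh.elem) : G)) hf1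
  simpa [f] using this

/-- The element of `H` congruent to `g * a * g⁻¹`. -/
noncomputable def sig (g a : G) : G :=
  ((exists_pair hh g).choose_spec.choose⁻¹ * g) * a * ((exists_pair hh g).choose_spec.choose⁻¹ * g)⁻¹

theorem sig_eq_iff {g a e : G} (ha : a ∈ H) (he : e ∈ H) :
    sig hh g a = e ↔ Odd (orderOf (e⁻¹ * (g * a * g⁻¹))) := by
  have p := (exists_pair hh g).choose_spec.choose_spec
  unfold sig
  set K := (exists_pair hh g).choose
  set k := (exists_pair hh g).choose_spec.choose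
  set n := k⁻¹ * g with hn
  have hna : n * a * n⁻¹ ∈ H := (Subgroup.mem_normalizer_iff.1 p.conj a).1 ha
  set w := e⁻¹ * (n * a * n⁻¹) with hw
  have hwH : w ∈ H := mul_mem (inv_mem he) hna
  have hc : (n * a * n⁻¹)⁻¹ * k * (n * a * n⁻¹) * k⁻¹ ∈ K :=
    mul_mem (by simpa using (Subgroup.mem_normalizer_iff.1 (p.le_normalizer (inv_mem hna)) k).1 p.mem)
      (inv_mem p.mem)
  have e1 : e⁻¹ * (g * a * g⁻¹) = w * ((n * a * n⁻¹)⁻¹ * k * (n * a * n⁻¹) * k⁻¹) := by
    rw [hw, hn]; group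
  rw [e1]
  constructor
  · intro h
    rw [hw, h, inv_mul_cancel, one_mul]
    exact odd_orderOf p.odd (h ▸ hc)
  · intro h
    have h1 := mem_of_odd hh.two p.le_normalizer
      (mul_mem (Subgroup.mem_sup_left hwH) (Subgroup.mem_sup_right hc)) h
    have hwK : w ∈ K := by simpa [mul_assoc] using mul_mem h1 (inv_mem hc)
    exact (inv_mul_eq_one.1 (eq_one_of_two_of_odd hh.two p.odd hwH hwK)).symm

theorem sig_of_mem {n a : G} (hn : n ∈ Subgroup.normalizer (H : Set G)) (ha : a ∈ H) :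
    sig hh n a = n * a * n⁻¹ :=
  (sig_eq_iff hh ha ((Subgroup.mem_normalizer_iff.1 hn a).1 ha)).2 (by rw [inv_mul_cancel, orderOf_one]; exact odd_one)

theorem exists_sig (g : G) : ∃ n ∈ Subgroup.normalizer (H : Set G), ∀ a, sig hh g a = n * a * n⁻¹ :=
  ⟨_, (exists_pair hh g).choose_spec.choose_spec.conj, fun _ => rfl⟩

theorem sig_mul_left (hgen : Subgroup.normalClosure (H : Set G) = ⊤) (h4 : Nat.card hh.elem = 4)
    {a₀ x : G} (ha₀ : a₀ ∈ hh.elem) (ha₀1 : a₀ ≠ 1) (hx : x * a₀ = a₀ * x) (g : G) {b : G}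
    (hb : b ∈ hh.elem) : sig hh (x * g) b = sig hh g b := by
  obtain ⟨n, hn, hnsig⟩ := exists_sig hh g
  obtain ⟨m, hm, hmsig⟩ := exists_sig hh (x * g)
  set a := n⁻¹ * a₀ * n with hadef
  have ha : a ∈ hh.elem := by simpa [hadef] using conj_mem_elem hh (Subgroup.inv_mem _ hn) ha₀
  have hga : sig hh g a = a₀ := by rw [hnsig, hadef]; group
  have hodd := (sig_eq_iff hh ha.1 ha₀.1).1 hga
  have hxa : sig hh (x * g) a = a₀ := by
    refine (sig_eq_iff hh ha.1 ha₀.1).2 ?_
    have hc : a₀⁻¹ * x = x * a₀⁻¹ := (Commute.inv_left (show Commute a₀ x from hx.symm)).eq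
    have e : a₀⁻¹ * (x * g * a * (x * g)⁻¹) = x * (a₀⁻¹ * (g * a * g⁻¹)) * x⁻¹ := by
      calc a₀⁻¹ * (x * g * a * (x * g)⁻¹) = a₀⁻¹ * x * (g * a * g⁻¹) * x⁻¹ := by group
        _ = x * a₀⁻¹ * (g * a * g⁻¹) * x⁻¹ := by rw [hc]
        _ = _ := by group
    rw [e, show orderOf (x * (a₀⁻¹ * (g * a * g⁻¹)) * x⁻¹) = orderOf (a₀⁻¹ * (g * a * g⁻¹)) from
      orderOf_injective (MulAut.conj x).toMonoidHom (MulEquiv.injective _) _]
    exact hodd
  have ha1 : a ≠ 1 := by
    intro h
    apply ha₀1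
    calc a₀ = n * a * n⁻¹ := by rw [hadef]; group
      _ = 1 := by rw [h]; group
  have h2 := fix_all hh hgen h4 (n := n⁻¹ * m) (mul_mem (Subgroup.inv_mem _ hn) hm) ha ha1
    (by rw [hmsig] at hxa
        calc n⁻¹ * m * a * (n⁻¹ * m)⁻¹ = n⁻¹ * (m * a * m⁻¹) * n := by group
          _ = a := by rw [hxa, hadef]) hb
  rw [hmsig, hnsig]
  calc m * b * m⁻¹ = n * (n⁻¹ * m * b * (n⁻¹ * m)⁻¹) * n⁻¹ := by group
    _ = n * b * n⁻¹ := by rw [h2]

/-- **Rank two.** The normaliser centralises `E`. -/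
theorem rank_two (hgen : Subgroup.normalClosure (H : Set G) = ⊤) (h4 : Nat.card hh.elem = 4)
    {n b : G} (hn : n ∈ Subgroup.normalizer (H : Set G)) (hb : b ∈ hh.elem) : n * b * n⁻¹ = b := by
  classical
  set Z : Set G := {x | ∃ a ∈ hh.elem, a ≠ 1 ∧ x * a = a * x} with hZ
  set X := Subgroup.closure Z with hX
  have hstab : ∀ x ∈ X, ∀ g : G, ∀ c ∈ hh.elem, sig hh (x * g) c = sig hh g c := by
    intro x hx
    induction hx using Subgroup.closure_induction with
    | mem y hy =>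
      obtain ⟨a, ha, ha1, hc⟩ := hy
      exact fun g c hc' => sig_mul_left hh hgen h4 ha ha1 hc g hc'
    | one => exact fun g c _ => by rw [one_mul]
    | mul y z _ _ ihy ihz => exact fun g c hc => by rw [mul_assoc, ihy _ c hc, ihz g c hc]
    | inv y _ ih => exact fun g c hc => by simpa using (ih (y⁻¹ * g) c hc).symm
  -- `X` contains the odd complements and `H`
  obtain ⟨a, ha, ha1⟩ : ∃ a ∈ hh.elem, a ≠ (1 : G) := by
    refine hh.elem.bot_or_exists_ne_one.resolve_left fun h => ?_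
    rw [h, Subgroup.card_bot] at h4
    omega
  have hHX : H ≤ X := fun x hx => Subgroup.subset_closure ⟨a, ha, ha1, commute_of_mem hh hx ha.1⟩
  haveI : Fact (Nat.Prime 2) := ⟨Nat.prime_two⟩
  have hE := elem_isElementaryAbelian hh
  have hNX : ∀ m ∈ Subgroup.normalizer (H : Set G), ∀ x ∈ X, m * x * m⁻¹ ∈ X := by
    intro m hm x hx
    have hle : X ≤ X.comap (MulAut.conj m).toMonoidHom := (Subgroup.closure_le _).2 fun y hy => by
      obtain ⟨c, hc, hc1, hcy⟩ := hy
      refine Subgroup.subset_closure ⟨m * c * m⁻¹, conj_mem_elem hh hm hc, ?_, ?_⟩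
      · simpa using hc1
      · show m * y * m⁻¹ * (m * c * m⁻¹) = m * c * m⁻¹ * (m * y * m⁻¹)
        calc m * y * m⁻¹ * (m * c * m⁻¹) = m * (y * c) * m⁻¹ := by group
          _ = m * (c * y) * m⁻¹ := by rw [hcy]
          _ = _ := by group
    simpa using hle hx
  have hdec : ∀ g : G, ∃ x ∈ X, x⁻¹ * g ∈ Subgroup.normalizer (H : Set G) := by
    intro g
    obtain ⟨K, k, p⟩ := exists_pair hh g
    refine ⟨k, ?_, p.conj⟩
    refine (Signalizer.le_of_hyp hE ((elem_le hh).trans p.le_normalizer)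
      (fun h2 => Nat.not_odd_iff_even.2 even_two (p.odd.of_dvd_nat h2)) fun B hB => ?_) p.mem
    obtain ⟨c, hc, hc1⟩ : ∃ c ∈ B, c ≠ (1 : G) := by
      refine B.bot_or_exists_ne_one.resolve_left ?_
      rintro rfl
      have := hB.2
      rw [Subgroup.relIndex_bot_left, h4] at this
      omega
    exact fun y hy => Subgroup.subset_closure ⟨c, hB.1 hc, hc1,
      (Subgroup.mem_centralizer_iff.1 hy.2 c hc).symm⟩
  haveI : X.Normal := by
    constructor
    intro x hx g
    obtain ⟨k, hk, hkn⟩ := hdec g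
    have h1 := mul_mem (mul_mem hk (hNX _ hkn x hx)) (inv_mem hk)
    have e : k * (k⁻¹ * g * x * (k⁻¹ * g)⁻¹) * k⁻¹ = g * x * g⁻¹ := by group
    rwa [e] at h1
  have htop : X = ⊤ := top_le_iff.1 (hgen ▸ Subgroup.normalClosure_le_normal hHX)
  have h1 := hstab n (htop ▸ Subgroup.mem_top n) 1 b hb
  rw [mul_one, sig_of_mem hh hn hb.1, sig_of_mem hh (Subgroup.one_mem _) hb.1] at h1
  simpa using h1

end Cfsg.Agent.Lib.ExtremelyClosed
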